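import Mathlib
import Groth.Agent.Lib.Helper7.Hensel.QuasiFiniteSplit
import Groth.Agent.Lib.Helper2.Hopf.HenselTransfer

set_option linter.style.haveILetI false
set_option linter.unusedVariables false
set_option linter.unusedSectionVars false
set_option autoImplicit false
set_option backward.isDefEq.respectTransparency.types false

universe u

/-! helper7: over a henselian local base, quasi-finite points over the closed point have open and closed affine neighbourhoods finite over the base; the finite part of a separated quasi-finite scheme splits off -/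

namespace Groth.Agent.Helper7.QFSplit

open CategoryTheory AlgebraicGeometry

/-- a local ring complete for its maximal ideal is henselian -/
theorem henselianLocalRing_of_isAdicComplete (A : Type u) [CommRing A] [IsLocalRing A]
    [IsAdicComplete (IsLocalRing.maximalIdeal A) A] : HenselianLocalRing A where
  is_henselian := by
    intro f hf a₀ h₁ h₂
    exact HenselianRing.is_henselian (I := IsLocalRing.maximalIdeal A) f hf a₀ h₁
      (h₂.map (Ideal.Quotient.mk _))

/-- the global sections of the spectrum of a henselian local ring form a henselian local ring -/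
theorem henselianLocalRing_Γ_Spec (A : Type u) [CommRing A] [HenselianLocalRing A] :
    HenselianLocalRing Γ(Spec (CommRingCat.of A), ⊤) :=
  Groth.Agent.Helper2.HopfLib.henselianLocalRing_of_ringEquiv
    (Scheme.ΓSpecIso (CommRingCat.of A)).symm.commRingCatIsoToRingEquiv

/-- over an affine henselian local base, a point of a separated scheme locally of finite type lying
over the closed point and isolated in its fibre has an open and closed affine neighbourhood which is
finite over the base -/
theorem exists_clopen_finite_nhd {X Y : Scheme.{u}} [IsAffine Y] [HenselianLocalRing Γ(Y, ⊤)]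
    (f : X ⟶ Y) [LocallyOfFiniteType f] [IsSeparated f] (x : X)
    (hx : IsClosed ({f x} : Set Y)) (hqf : f.QuasiFiniteAt x) :
    ∃ W : X.Opens, x ∈ W ∧ IsClosed (W : Set X) ∧ IsAffineOpen W ∧ IsFinite (W.ι ≫ f) := by
  obtain ⟨_, ⟨V, hV : IsAffineOpen V, rfl⟩, hxV, -⟩ :=
    X.isBasis_affineOpens.exists_subset_of_mem_open (Set.mem_univ x) isOpen_univ
  have hU : IsAffineOpen (⊤ : Y.Opens) := isAffineOpen_top Y
  have hVU : V ≤ f ⁻¹ᵁ ⊤ := by simp
  have hft : (f.appLE ⊤ V hVU).hom.FiniteType := f.finiteType_appLE hU hV hVU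
  have hq := hqf.quasiFiniteAt hV hU hVU hxV
  set q := hV.primeIdealOf ⟨x, hxV⟩ with hqdef
  algebraize [(f.appLE ⊤ V hVU).hom]
  have hq' : Algebra.QuasiFiniteAt Γ(Y, ⊤) q.asIdeal := hq
  -- the point lies over the closed point
  have hcomap : q.asIdeal.comap (algebraMap Γ(Y, ⊤) Γ(X, V)) =
      IsLocalRing.maximalIdeal Γ(Y, ⊤) := by
    have h1 := IsAffineOpen.comap_primeIdealOf_appLE (f := f) (x := x) ⊤ hU V hV hVU hxV
    have h2 : (hU.primeIdealOf ⟨f x, hVU hxV⟩).asIdeal.IsMaximal :=
      hU.primeIdealOf_isMaximal_of_isClosed ⟨f x, hVU hxV⟩ hx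
    have h3 := IsLocalRing.eq_maximalIdeal h2
    rw [← h3, ← h1]
    rfl
  obtain ⟨e, he, hfin, hne⟩ := Groth.Agent.Helper7.Hensel.exists_idempotent_split Γ(Y, ⊤) Γ(X, V)
    {q} (by intro q' hq''; rw [Finset.mem_singleton] at hq''; subst hq''; exact hq')
  have heq : e ∉ q.asIdeal := by
    apply hne q (Finset.mem_singleton_self q)
    rw [Ideal.map_le_iff_le_comap, hcomap]
  let W : X.Opens := X.basicOpen e
  have hWV : W ≤ V := X.basicOpen_le e
  have hW : IsAffineOpen W := hV.basicOpen e
  have hxW : x ∈ W := by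
    have h1 : hV.fromSpec q = x := hV.fromSpec_primeIdealOf ⟨x, hxV⟩
    have h2 : q ∈ hV.fromSpec ⁻¹ᵁ X.basicOpen e := by
      rw [hV.fromSpec_preimage_basicOpen]
      exact heq
    rw [← h1]
    exact h2
  -- finiteness of `W` over `Y`
  have hfinW : (f.appLE ⊤ W (by simp)).hom.Finite := by
    let ψ : Γ(X, V) →+* Γ(X, W) := (X.presheaf.map (homOfLE hWV).op).hom
    have hψe : ψ e = 1 := by
      have hu : IsUnit (ψ e) := RingedSpace.isUnit_res_basicOpen X.toRingedSpace e
      have hid : ψ e * ψ e = ψ e := by rw [← map_mul, he.eq]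
      have := hu.mul_left_cancel (a := ψ e) (b := ψ e) (c := 1) (by rw [hid, mul_one])
      exact this
    have hψ0 : ∀ a ∈ Ideal.span ({1 - e} : Set Γ(X, V)), ψ a = 0 := by
      intro a ha
      rw [Ideal.mem_span_singleton'] at ha
      obtain ⟨b, rfl⟩ := ha
      rw [map_mul, map_sub, map_one, hψe, sub_self, mul_zero]
    let ψ' : Γ(X, V) ⧸ Ideal.span ({1 - e} : Set Γ(X, V)) →+* Γ(X, W) :=
      Ideal.Quotient.lift _ ψ hψ0
    haveI := hV.isLocalization_basicOpen e
    have hψsurj : Function.Surjective ψ := by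
      have := IsLocalization.Away.algebraMap_surjective_of_isIdempotentElem
        (S := Γ(X, X.basicOpen e)) e he
      exact this
    have hψ'surj : Function.Surjective ψ' := by
      intro b
      obtain ⟨a, rfl⟩ := hψsurj b
      exact ⟨Ideal.Quotient.mk _ a, rfl⟩
    have hcomp : (f.appLE ⊤ W (by simp)).hom =
        ψ'.comp (algebraMap Γ(Y, ⊤) (Γ(X, V) ⧸ Ideal.span ({1 - e} : Set Γ(X, V)))) := by
      have h1 : f.appLE ⊤ V hVU ≫ X.presheaf.map (homOfLE hWV).op = f.appLE ⊤ W (by simp) :=
        Scheme.Hom.appLE_map f hVU (homOfLE hWV).op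
      rw [← h1]
      ext a
      rfl
    rw [hcomp]
    exact RingHom.Finite.comp (RingHom.Finite.of_surjective _ hψ'surj)
      (RingHom.finite_algebraMap.2 hfin)
  have hfinite : IsFinite (W.ι ≫ f) := by
    have h1 : IsFinite (Spec.map (f.appLE ⊤ W (by simp))) := (IsFinite.SpecMap_iff _).2 hfinW
    have h2 := IsAffineOpen.SpecMap_appLE_fromSpec f hU hW (by simp)
    have h3 : IsFinite (hW.fromSpec ≫ f) := by
      rw [← h2, IsAffineOpen.fromSpec_top]
      infer_instance
    have h4 : W.ι ≫ f = hW.isoSpec.hom ≫ hW.fromSpec ≫ f := by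
      rw [← Category.assoc, hW.isoSpec_hom_fromSpec]
    rw [h4]
    infer_instance
  refine ⟨W, hxW, ?_, hW, hfinite⟩
  haveI : IsProper W.ι := IsProper.of_comp W.ι f
  have := W.ι.isClosedMap.isClosed_range
  rwa [Scheme.Opens.range_ι] at this

/-- a finite union of opens which are finite over an affine base, inside a separated locally
quasi-finite scheme locally of finite type, is finite over the base -/
theorem isFinite_biSup {X Y : Scheme.{u}} [IsAffine Y] (f : X ⟶ Y) [LocallyOfFiniteType f]
    [IsSeparated f] [LocallyQuasiFinite f] {ι : Type*} (t : Set ι) (ht : t.Finite)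
    (W : ι → X.Opens) (hW : ∀ i ∈ t, IsFinite ((W i).ι ≫ f)) :
    IsFinite ((⨆ i ∈ t, W i).ι ≫ f) := by
  set U : X.Opens := ⨆ i ∈ t, W i with hUdef
  have hcomp : IsCompact (U : Set X) := by
    have h1 : (U : Set X) = ⋃ i ∈ t, (W i : Set X) := by
      rw [hUdef]; simp
    rw [h1]
    refine ht.isCompact_biUnion fun i hi => ?_
    haveI := hW i hi
    have h2 : QuasiCompact ((W i).ι ≫ f) := inferInstance
    rw [HasAffineProperty.iff_of_isAffine (P := @QuasiCompact)] at h2
    exact isCompact_iff_compactSpace.2 h2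
  haveI hqc : QuasiCompact (U.ι ≫ f) := by
    rw [HasAffineProperty.iff_of_isAffine (P := @QuasiCompact)]
    exact isCompact_iff_compactSpace.1 hcomp
  have hex : ValuativeCriterion.Existence (U.ι ≫ f) := by
    intro S
    let p : U := S.i₁ (IsLocalRing.closedPoint S.K)
    have hp : (p : X) ∈ U := p.2
    obtain ⟨i, hi, hpi⟩ : ∃ i ∈ t, (p : X) ∈ W i := by
      have : (p : X) ∈ (⨆ i ∈ t, W i : X.Opens) := hp
      simpa using this
    have hle : W i ≤ U := le_biSup W hi
    let j : (W i).toScheme ⟶ U.toScheme := X.homOfLE hle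
    have hrange : Set.range S.i₁ ⊆ Set.range j := by
      rintro _ ⟨z, rfl⟩
      have hz : z = IsLocalRing.closedPoint S.K := Subsingleton.elim _ _
      rw [hz]
      have h1 : Set.range j = ((X.homOfLE hle).opensRange : Set U) := rfl
      rw [h1, Scheme.opensRange_homOfLE]
      exact hpi
    let l₁ := IsOpenImmersion.lift j S.i₁ hrange
    have hl₁ : l₁ ≫ j = S.i₁ := IsOpenImmersion.lift_fac j S.i₁ hrange
    have hjι : j ≫ U.ι = (W i).ι := X.homOfLE_ι hle
    have sq : CommSq l₁ (Spec.map (CommRingCat.ofHom (algebraMap S.R S.K)))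
        ((W i).ι ≫ f) S.i₂ := by
      constructor
      rw [← hjι, Category.assoc, ← Category.assoc l₁, hl₁]
      exact S.commSq.w
    let S' : ValuativeCommSq ((W i).ι ≫ f) :=
      { R := S.R, K := S.K, i₁ := l₁, i₂ := S.i₂, commSq := sq }
    haveI := hW i hi
    have huc : UniversallyClosed ((W i).ι ≫ f) := inferInstance
    rw [UniversallyClosed.eq_valuativeCriterion] at huc
    obtain ⟨⟨l, hl1, hl2⟩⟩ := huc.1 S'
    refine ⟨⟨⟨l ≫ j, ?_, ?_⟩⟩⟩
    · rw [← Category.assoc]
      have : Spec.map (CommRingCat.ofHom (algebraMap S.R S.K)) ≫ l = l₁ := hl1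
      rw [this, hl₁]
    · rw [Category.assoc, ← Category.assoc j, hjι]
      exact hl2
  haveI : UniversallyClosed (U.ι ≫ f) := UniversallyClosed.of_valuativeCriterion _ hex
  haveI : IsProper (U.ι ≫ f) := {}
  exact IsFinite.of_isProper_of_locallyQuasiFinite _

/-- a separated quasi-finite scheme over a henselian local affine base has an open and closed
subscheme finite over the base and containing the closed fibre -/
theorem exists_clopen_finite_of_quasiFinite {X Y : Scheme.{u}} [IsAffine Y]
    [HenselianLocalRing Γ(Y, ⊤)] (f : X ⟶ Y) [LocallyOfFiniteType f] [QuasiCompact f]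
    [IsSeparated f] [LocallyQuasiFinite f] (y : Y) (hy : IsClosed ({y} : Set Y)) :
    ∃ U : X.Opens, IsClosed (U : Set X) ∧ IsFinite (U.ι ≫ f) ∧ ∀ x : X, f x = y → x ∈ U := by
  have key : ∀ x : X, f x = y → ∃ W : X.Opens, x ∈ W ∧ IsClosed (W : Set X) ∧ IsAffineOpen W ∧
      IsFinite (W.ι ≫ f) := by
    intro x hx
    exact exists_clopen_finite_nhd f x (by rw [hx]; exact hy) (f.quasiFiniteAt x)
  choose W hW using key
  let W' : {x : X // f x = y} → X.Opens := fun i => W i.1 i.2
  have hcompact : IsCompact (f ⁻¹' {y}) := f.isCompact_preimage_singleton y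
  obtain ⟨t, htcov⟩ := hcompact.elim_finite_subcover (fun i => (W' i : Set X))
    (fun i => (W' i).2)
    (fun x hx => Set.mem_iUnion.2 ⟨⟨x, hx⟩, (hW x hx).1⟩)
  have h1 : ((⨆ i ∈ (t : Set {x : X // f x = y}), W' i : X.Opens) : Set X) =
      ⋃ i ∈ t, (W' i : Set X) := by simp
  refine ⟨⨆ i ∈ (t : Set {x : X // f x = y}), W' i, ?_, ?_, ?_⟩
  · rw [h1]
    exact t.finite_toSet.isClosed_biUnion fun i hi => (hW i.1 i.2).2.1
  · exact isFinite_biSup f (t : Set {x : X // f x = y}) t.finite_toSet W'
      fun i hi => (hW i.1 i.2).2.2.2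
  · intro x hx
    have h2 := htcov hx
    show x ∈ ((⨆ i ∈ (t : Set {x : X // f x = y}), W' i : X.Opens) : Set X)
    rw [h1]
    exact h2

end Groth.Agent.Helper7.QFSplit
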