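import Mathlib
import Groth.Agent.Lib.Helper7.QFSplit.Main
import Groth.Agent.Lib.Helper7.Hensel.FiniteDecompMain

set_option linter.style.haveILetI false
set_option linter.unusedVariables false
set_option linter.unusedSectionVars false
set_option autoImplicit false
set_option backward.isDefEq.respectTransparency.types false

universe u

/-! helper7: over a henselian local base: local clopen neighbourhoods of isolated points of the closed fibre; Spec of the local ring is an open and closed subscheme finite over the base -/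

namespace Groth.Agent.Helper7.QFSplit

open CategoryTheory AlgebraicGeometry

/-- for an open `W` of `X` which is affine and finite over the affine base, the ring map on
sections is finite -/
theorem finite_appLE_of_isFinite {X Y : Scheme.{u}} [IsAffine Y] (f : X ⟶ Y) {W : X.Opens}
    (hW : IsAffineOpen W) (h : IsFinite (W.ι ≫ f)) :
    (f.appLE ⊤ W (by simp)).hom.Finite := by
  have hU : IsAffineOpen (⊤ : Y.Opens) := isAffineOpen_top Y
  have h2 := IsAffineOpen.SpecMap_appLE_fromSpec f hU hW (by simp)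
  have h3 : IsFinite (hW.fromSpec ≫ f) := by
    have h4 : hW.fromSpec ≫ f = hW.isoSpec.inv ≫ W.ι ≫ f := by
      rw [← Category.assoc, hW.isoSpec_inv_ι]
    rw [h4]
    infer_instance
  rw [← h2, IsAffineOpen.fromSpec_top] at h3
  have h5 : IsFinite ((Spec.map (f.appLE ⊤ W (by simp)) ≫ Y.isoSpec.inv) ≫ Y.isoSpec.hom) :=
    inferInstance
  rw [Category.assoc, Iso.inv_hom_id, Category.comp_id] at h5
  exact (IsFinite.SpecMap_iff _).1 h5

/-- the basic open of an idempotent section `e` over an affine open `V`, such that `Γ(V)/(1-e)` is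
finite over the base, is finite over the base -/
theorem finite_basicOpen_of_idempotent {X Y : Scheme.{u}} [IsAffine Y] (f : X ⟶ Y) {V : X.Opens}
    (hV : IsAffineOpen V) (e : Γ(X, V)) (he : IsIdempotentElem e)
    (hfin : letI := (f.appLE ⊤ V (by simp)).hom.toAlgebra
      Module.Finite Γ(Y, ⊤) (Γ(X, V) ⧸ Ideal.span ({1 - e} : Set Γ(X, V)))) :
    (f.appLE ⊤ (X.basicOpen e) (by simp)).hom.Finite ∧ IsFinite ((X.basicOpen e).ι ≫ f) ∧
      Nonempty ((Γ(X, V) ⧸ Ideal.span ({1 - e} : Set Γ(X, V))) ≃+* Γ(X, X.basicOpen e)) := by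
  have hU : IsAffineOpen (⊤ : Y.Opens) := isAffineOpen_top Y
  have hVU : V ≤ f ⁻¹ᵁ ⊤ := by simp
  algebraize [(f.appLE ⊤ V hVU).hom]
  let W : X.Opens := X.basicOpen e
  have hWV : W ≤ V := X.basicOpen_le e
  have hW : IsAffineOpen W := hV.basicOpen e
  let ψ : Γ(X, V) →+* Γ(X, W) := (X.presheaf.map (homOfLE hWV).op).hom
  have hψe : ψ e = 1 := by
    have hu : IsUnit (ψ e) := RingedSpace.isUnit_res_basicOpen X.toRingedSpace e
    have hid : ψ e * ψ e = ψ e := by rw [← map_mul, he.eq]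
    have := hu.mul_left_cancel (a := ψ e) (b := ψ e) (c := 1) (by rw [hid, mul_one])
    exact this
  have hψ0 : ∀ a ∈ Ideal.span ({1 - e} : Set Γ(X, V)), ψ a = 0 := by
    intro a ha
    rw [Ideal.mem_span_singleton'] at ha
    obtain ⟨b, rfl⟩ := ha
    rw [map_mul, map_sub, map_one, hψe, sub_self, mul_zero]
  let ψ' : Γ(X, V) ⧸ Ideal.span ({1 - e} : Set Γ(X, V)) →+* Γ(X, W) :=
    Ideal.Quotient.lift _ ψ hψ0
  haveI hloc := hV.isLocalization_basicOpen e
  have hψsurj : Function.Surjective ψ := by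
    have := IsLocalization.Away.algebraMap_surjective_of_isIdempotentElem
      (S := Γ(X, X.basicOpen e)) e he
    exact this
  have hψ'surj : Function.Surjective ψ' := by
    intro b
    obtain ⟨a, rfl⟩ := hψsurj b
    exact ⟨Ideal.Quotient.mk _ a, rfl⟩
  have hψ'inj : Function.Injective ψ' := by
    rw [injective_iff_map_eq_zero]
    intro b hb
    obtain ⟨a, rfl⟩ := Ideal.Quotient.mk_surjective b
    have h0 : ψ a = 0 := hb
    have h1 : algebraMap Γ(X, V) Γ(X, X.basicOpen e) a = algebraMap Γ(X, V) Γ(X, X.basicOpen e) 0 := by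
      rw [map_zero]; exact h0
    obtain ⟨⟨c, n, rfl⟩, hc⟩ := (IsLocalization.eq_iff_exists (Submonoid.powers e) _).1 h1
    rw [Ideal.Quotient.eq_zero_iff_mem, Ideal.mem_span_singleton']
    have hen : e ^ n * a = 0 := by simpa using hc
    have hea : e * a = 0 := by
      rcases Nat.eq_zero_or_pos n with rfl | hn
      · rw [pow_zero, one_mul] at hen; rw [hen, mul_zero]
      · rwa [he.pow_eq hn.ne'] at hen
    exact ⟨a, by rw [mul_sub, mul_one, mul_comm, hea, sub_zero]⟩
  have hcomp : (f.appLE ⊤ W (by simp)).hom =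
      ψ'.comp (algebraMap Γ(Y, ⊤) (Γ(X, V) ⧸ Ideal.span ({1 - e} : Set Γ(X, V)))) := by
    have h1 : f.appLE ⊤ V hVU ≫ X.presheaf.map (homOfLE hWV).op = f.appLE ⊤ W (by simp) :=
      Scheme.Hom.appLE_map f hVU (homOfLE hWV).op
    rw [← h1]
    ext a
    rfl
  have hfinW : (f.appLE ⊤ W (by simp)).hom.Finite := by
    rw [hcomp]
    exact RingHom.Finite.comp (RingHom.Finite.of_surjective _ hψ'surj)
      (RingHom.finite_algebraMap.2 hfin)
  refine ⟨hfinW, ?_, ⟨RingEquiv.ofBijective ψ' ⟨hψ'inj, hψ'surj⟩⟩⟩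
  have h1 : IsFinite (Spec.map (f.appLE ⊤ W (by simp))) := (IsFinite.SpecMap_iff _).2 hfinW
  have h2 := IsAffineOpen.SpecMap_appLE_fromSpec f hU hW (by simp)
  have h3 : IsFinite (hW.fromSpec ≫ f) := by
    rw [← h2, IsAffineOpen.fromSpec_top]
    infer_instance
  have h4 : W.ι ≫ f = hW.isoSpec.hom ≫ hW.fromSpec ≫ f := by
    rw [← Category.assoc, hW.isoSpec_hom_fromSpec]
  rw [h4]
  infer_instance

/-- a point over a closed point of the base is closed in an affine open finite over the base -/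
theorem primeIdealOf_eq_of_finite {X Y : Scheme.{u}} [IsAffine Y] [IsLocalRing Γ(Y, ⊤)]
    (f : X ⟶ Y) {W : X.Opens} (hW : IsAffineOpen W) (hfin : (f.appLE ⊤ W (by simp)).hom.Finite)
    (x : X) (hxW : x ∈ W) (hx : IsClosed ({f x} : Set Y)) :
    (hW.primeIdealOf ⟨x, hxW⟩).asIdeal.IsMaximal := by
  have hU : IsAffineOpen (⊤ : Y.Opens) := isAffineOpen_top Y
  have hWU : W ≤ f ⁻¹ᵁ ⊤ := by simp
  have h1 := IsAffineOpen.comap_primeIdealOf_appLE (f := f) (x := x) ⊤ hU W hW hWU hxW
  have h2 : (hU.primeIdealOf ⟨f x, hWU hxW⟩).asIdeal.IsMaximal :=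
    hU.primeIdealOf_isMaximal_of_isClosed ⟨f x, hWU hxW⟩ hx
  refine Ideal.isMaximal_of_isIntegral_of_isMaximal_comap' (f.appLE ⊤ W hWU).hom
    hfin.to_isIntegral _ ?_
  have h3 : (hW.primeIdealOf ⟨x, hxW⟩).asIdeal.comap (f.appLE ⊤ W hWU).hom =
      (hU.primeIdealOf ⟨f x, hWU hxW⟩).asIdeal := by
    rw [← h1]; rfl
  rw [h3]
  exact h2

/-- over an affine henselian local base, a point of a separated scheme locally of finite type lying
over the closed point and isolated in its fibre has an open and closed affine neighbourhood which is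
finite over the base and whose ring of sections is local -/
theorem exists_clopen_local_nhd {X Y : Scheme.{u}} [IsAffine Y] [HenselianLocalRing Γ(Y, ⊤)]
    (f : X ⟶ Y) [LocallyOfFiniteType f] [IsSeparated f] (x : X)
    (hx : IsClosed ({f x} : Set Y)) (hqf : f.QuasiFiniteAt x) :
    ∃ W : X.Opens, x ∈ W ∧ IsClosed (W : Set X) ∧ IsAffineOpen W ∧ IsFinite (W.ι ≫ f) ∧
      IsLocalRing Γ(X, W) := by
  obtain ⟨V, hxV, hVcl, hV, hVfin⟩ := exists_clopen_finite_nhd f x hx hqf
  have hfinV := finite_appLE_of_isFinite f hV hVfin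
  have hVU : V ≤ f ⁻¹ᵁ ⊤ := by simp
  algebraize [(f.appLE ⊤ V hVU).hom]
  haveI hmf : Module.Finite Γ(Y, ⊤) Γ(X, V) := hfinV
  have hqmax := primeIdealOf_eq_of_finite f hV hfinV x hxV hx
  set q := hV.primeIdealOf ⟨x, hxV⟩ with hqdef
  haveI := Groth.Agent.Helper7.Hensel.finite_maximalSpectrum Γ(Y, ⊤) Γ(X, V)
  haveI : Fintype (MaximalSpectrum Γ(X, V)) := Fintype.ofFinite _
  obtain ⟨e, he, h1, h2, hloc⟩ :=
    Groth.Agent.Helper7.Hensel.exists_idempotents_local Γ(Y, ⊤) Γ(X, V)
  let M : MaximalSpectrum Γ(X, V) := ⟨q.asIdeal, hqmax⟩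
  have heM : IsIdempotentElem (e M) := he.idem M
  have heq : e M ∉ q.asIdeal := by
    intro hmem
    have h3 : 1 - e M ∈ q.asIdeal := h1 M
    have h4 : (1 : Γ(X, V)) ∈ q.asIdeal := by
      have := q.asIdeal.add_mem h3 hmem
      rwa [sub_add_cancel] at this
    exact q.isPrime.ne_top ((Ideal.eq_top_iff_one _).2 h4)
  have hfinq : Module.Finite Γ(Y, ⊤) (Γ(X, V) ⧸ Ideal.span ({1 - e M} : Set Γ(X, V))) :=
    Module.Finite.of_surjective
      (Ideal.Quotient.mkₐ Γ(Y, ⊤) (Ideal.span ({1 - e M} : Set Γ(X, V)))).toLinearMap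
      (Ideal.Quotient.mkₐ_surjective Γ(Y, ⊤) (Ideal.span ({1 - e M} : Set Γ(X, V))))
  obtain ⟨hfinW, hWfin, ⟨eqv⟩⟩ := finite_basicOpen_of_idempotent f hV (e M) heM hfinq
  refine ⟨X.basicOpen (e M), ?_, ?_, hV.basicOpen (e M), hWfin, ?_⟩
  · have h3 : hV.fromSpec q = x := hV.fromSpec_primeIdealOf ⟨x, hxV⟩
    have h4 : q ∈ hV.fromSpec ⁻¹ᵁ X.basicOpen (e M) := by
      rw [hV.fromSpec_preimage_basicOpen]
      exact heq
    rw [← h3]
    exact h4
  · haveI : IsProper (X.basicOpen (e M)).ι := IsProper.of_comp (X.basicOpen (e M)).ι f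
    have := (X.basicOpen (e M)).ι.isClosedMap.isClosed_range
    rwa [Scheme.Opens.range_ι] at this
  · haveI := hloc M
    exact eqv.isLocalRing

/-- over an affine henselian local base, for a point `x` of a separated scheme locally of finite
type lying over the closed point and isolated in its fibre, `Spec O_{X,x}` is an open and closed
subscheme of `X`, finite over the base -/
theorem fromSpecStalk_clopen {X Y : Scheme.{u}} [IsAffine Y] [HenselianLocalRing Γ(Y, ⊤)]
    (f : X ⟶ Y) [LocallyOfFiniteType f] [IsSeparated f] (x : X)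
    (hx : IsClosed ({f x} : Set Y)) (hqf : f.QuasiFiniteAt x) :
    IsOpenImmersion (X.fromSpecStalk x) ∧ IsClosedImmersion (X.fromSpecStalk x) ∧
      IsFinite (X.fromSpecStalk x ≫ f) := by
  obtain ⟨W, hxW, hWcl, hW, hWfin, hloc⟩ := exists_clopen_local_nhd f x hx hqf
  have hfinW := finite_appLE_of_isFinite f hW hWfin
  have hqmax := primeIdealOf_eq_of_finite f hW hfinW x hxW hx
  have hqeq : (hW.primeIdealOf ⟨x, hxW⟩).asIdeal = IsLocalRing.maximalIdeal Γ(X, W) :=
    IsLocalRing.eq_maximalIdeal hqmax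
  letI := X.presheaf.algebra_section_stalk ⟨x, hxW⟩
  haveI hlocz := hW.isLocalization_stalk ⟨x, hxW⟩
  have hle : (hW.primeIdealOf ⟨x, hxW⟩).asIdeal.primeCompl ≤ IsUnit.submonoid Γ(X, W) := by
    intro a ha
    have h1 : a ∉ IsLocalRing.maximalIdeal Γ(X, W) := by rw [← hqeq]; exact ha
    rw [IsLocalRing.mem_maximalIdeal, mem_nonunits_iff, not_not] at h1
    exact h1
  let eqv := IsLocalization.atUnits Γ(X, W) (hW.primeIdealOf ⟨x, hxW⟩).asIdeal.primeCompl
    (S := X.presheaf.stalk x) hle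
  have hbij : Function.Bijective (X.presheaf.germ W x hxW).hom := eqv.bijective
  haveI : IsIso (X.presheaf.germ W x hxW) := (ConcreteCategory.isIso_iff_bijective _).2 hbij
  have heq : X.fromSpecStalk x = Spec.map (X.presheaf.germ W x hxW) ≫ hW.fromSpec :=
    (hW.fromSpecStalk_eq_fromSpecStalk hxW).symm
  have hopen : IsOpenImmersion (X.fromSpecStalk x) := by
    rw [heq]; infer_instance
  have hrange : Set.range (X.fromSpecStalk x) = (W : Set X) := by
    rw [heq, Scheme.Hom.comp_base, TopCat.coe_comp, Set.range_comp,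
      Set.range_eq_univ.2 (Spec.map (X.presheaf.germ W x hxW)).surjective, Set.image_univ,
      hW.range_fromSpec]
  refine ⟨hopen, ?_, ?_⟩
  · exact IsClosedImmersion.of_isPreimmersion _ (by rw [hrange]; exact hWcl)
  · have h3 : IsFinite (hW.fromSpec ≫ f) := by
      have h4 : hW.fromSpec ≫ f = hW.isoSpec.inv ≫ W.ι ≫ f := by
        rw [← Category.assoc, hW.isoSpec_inv_ι]
      rw [h4]
      infer_instance
    rw [heq, Category.assoc]
    infer_instance

end Groth.Agent.Helper7.QFSplit
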